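import Groth.Agent.H23.GysinPb
import Mathlib.RingTheory.LocalRing.Length
import Mathlib.AlgebraicGeometry.Morphisms.Flat
import Mathlib.AlgebraicGeometry.Morphisms.UniversallyOpen
import Mathlib.AlgebraicGeometry.IdealSheaf.Subscheme
import Mathlib.RingTheory.KrullDimension.Zero

/-!
# Lengths of local rings at maximal points under flat base change of the reduction
-/

set_option autoImplicit false
set_option backward.isDefEq.respectTransparency false

universe u

open AlgebraicGeometry CategoryTheory CategoryTheory.Limits IsLocalRing TopologicalSpace TensorProduct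

namespace Groth.Agent.FBaseLib

/-- The stalk map of a surjective closed immersion from a reduced scheme is the reduction map. -/
theorem ker_stalkMap_red {Y D : Scheme.{u}} (j : D ⟶ Y) [IsClosedImmersion j] [Surjective j]
    [IsReduced D] (d : D) : RingHom.ker (j.stalkMap d).hom = nilradical (Y.presheaf.stalk (j d)) := by
  refine le_antisymm (fun a ha => ?_) fun a ha => ?_
  · refine nilpotent_iff_mem_prime.2 fun Q hQ => ?_
    let Qp : Spec (Y.presheaf.stalk (j d)) := ⟨Q, hQ⟩
    obtain ⟨η, hη⟩ := j.surjective (Y.fromSpecStalk (j d) Qp)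
    have h1 : j η ⤳ j d := by
      have : Y.fromSpecStalk (j d) Qp ∈ Set.range (Y.fromSpecStalk (j d)) := ⟨_, rfl⟩
      rw [Scheme.range_fromSpecStalk] at this
      rwa [hη]
    have h2 : η ∈ Set.range (D.fromSpecStalk d) := by
      rw [Scheme.range_fromSpecStalk]
      exact j.isClosedEmbedding.isInducing.specializes_iff.1 h1
    obtain ⟨Q', rfl⟩ := h2
    have h3 : PrimeSpectrum.comap (j.stalkMap d).hom Q' = Qp :=
      (Y.fromSpecStalk (j d)).isEmbedding.injective (by
        rw [← hη, ← Scheme.Hom.comp_apply (D.fromSpecStalk d) j, ← Scheme.SpecMap_stalkMap_fromSpecStalk]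
        rfl)
    have h4 : a ∈ (PrimeSpectrum.comap (j.stalkMap d).hom Q').asIdeal := by
      show (j.stalkMap d).hom a ∈ Q'.asIdeal
      rw [show (j.stalkMap d).hom a = 0 from ha]
      exact zero_mem _
    rwa [h3] at h4
  · exact ((mem_nilradical.1 ha).map (j.stalkMap d).hom).eq_zero

/-- At a point without proper generizations the local ring has a single prime. -/
theorem subsingleton_primeSpectrum_stalk {X : Scheme.{u}} (x : X) (hx : ∀ z : X, z ⤳ x → z = x) :
    Subsingleton (PrimeSpectrum (X.presheaf.stalk x)) := by
  refine ⟨fun P Q => (X.fromSpecStalk x).isEmbedding.injective ?_⟩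
  have h : ∀ P, X.fromSpecStalk x P = x := fun P => hx _ (by
    have : X.fromSpecStalk x P ∈ Set.range (X.fromSpecStalk x) := ⟨P, rfl⟩
    rwa [Scheme.range_fromSpecStalk] at this)
  exact (h P).trans (h Q).symm

theorem nilradical_eq_maximalIdeal_stalk {X : Scheme.{u}} (x : X) (hx : ∀ z : X, z ⤳ x → z = x) :
    nilradical (X.presheaf.stalk x) = maximalIdeal (X.presheaf.stalk x) := by
  haveI := subsingleton_primeSpectrum_stalk x hx
  refine le_antisymm (le_maximalIdeal (fun h => not_isNilpotent_one (R := X.presheaf.stalk x)
    (mem_nilradical.1 (h.ge Submodule.mem_top))))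
    fun a ha => nilpotent_iff_mem_prime.2 fun J hJ => ?_
  have : (⟨J, hJ⟩ : PrimeSpectrum (X.presheaf.stalk x)) = closedPoint _ := Subsingleton.elim _ _
  rw [show J = maximalIdeal _ from congrArg PrimeSpectrum.asIdeal this]
  exact ha

/-- Flat morphisms preserve points without proper generizations. -/
theorem forall_generization_map_eq {X Y : Scheme.{u}} (π : X ⟶ Y) [Flat π] (x : X)
    (hx : ∀ z : X, z ⤳ x → z = x) : ∀ y : Y, y ⤳ π x → y = π x := by
  intro y hy
  obtain ⟨z, hz, rfl⟩ := Flat.generalizingMap π hy
  rw [hx z hz]

theorem map_stalkSpecializes_nilradical {X X' : Scheme.{u}} (f : X' ⟶ X) (x : X') {y : X} (h : y = f x) :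
    Ideal.map (X.presheaf.stalkSpecializes (specializes_of_eq h.symm) ≫ f.stalkMap x).hom
        (nilradical (X.presheaf.stalk y)) =
      Ideal.map (f.stalkMap x).hom (nilradical (X.presheaf.stalk (f x))) := by
  subst h
  rw [TopCat.Presheaf.stalkSpecializes_refl, Category.id_comp]

/-- The length of a local ring at a maximal point of a flat base change of a scheme, in terms of the
reduction downstairs. -/
theorem length_stalk_pullback_red {X X' D : Scheme.{u}} (π : X' ⟶ X) [Flat π] (i : D ⟶ X)
    [IsClosedImmersion i] [Surjective i] [IsReduced D] (z : ↥(pullback π i))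
    (hz : ∀ w : X', w ⤳ pullback.fst π i z → w = pullback.fst π i z) :
    Module.length (X'.presheaf.stalk (pullback.fst π i z)) (X'.presheaf.stalk (pullback.fst π i z)) =
      Module.length (X.presheaf.stalk (π (pullback.fst π i z))) (X.presheaf.stalk (π (pullback.fst π i z))) *
        Module.length ((pullback π i).presheaf.stalk z) ((pullback π i).presheaf.stalk z) := by
  set x' := pullback.fst π i z with hx'
  let A := X.presheaf.stalk (π x')
  let B := X'.presheaf.stalk x'
  let C := (pullback π i).presheaf.stalk z
  have hker : RingHom.ker ((pullback.fst π i).stalkMap z).hom =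
      (maximalIdeal A).map (π.stalkMap x').hom := by
    rw [H23.GysinPb.ker_stalkMap_fst, ker_stalkMap_red,
      ← nilradical_eq_maximalIdeal_stalk _ (forall_generization_map_eq π x' hz)]
    exact map_stalkSpecializes_nilradical π x' (H23.GysinPb.apply_fst_eq π i z).symm
  letI : Algebra A B := (π.stalkMap x').hom.toAlgebra
  haveI : IsLocalHom (algebraMap A B) := inferInstanceAs (IsLocalHom (π.stalkMap x').hom)
  haveI : Module.Flat A B := Flat.stalkMap π x'
  letI : Algebra B C := ((pullback.fst π i).stalkMap z).hom.toAlgebra
  have hsurj : Function.Surjective (algebraMap B C) := (pullback.fst π i).stalkMap_surjective z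
  have h1 : Module.length B (B ⊗[A] A) =
      Module.length A A * Module.length B (B ⧸ (maximalIdeal A).map (algebraMap A B)) :=
    IsLocalRing.length_baseChange A B A
  rw [(AlgebraTensorModule.rid A B B).length_eq] at h1
  have h2 : Module.length B (B ⧸ (maximalIdeal A).map (algebraMap A B)) = Module.length B C := by
    refine LinearEquiv.length_eq ?_
    exact (Submodule.quotEquivOfEq _ _ (hker.symm.trans (by ext; rfl))).trans
      ((Algebra.linearMap B C).quotKerEquivOfSurjective hsurj)
  rw [h2, Module.length_eq_of_surjective (S := B) (R := C) (M := C) hsurj] at h1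
  exact h1

/-- Version for an arbitrary cartesian square. -/
theorem length_stalk_of_isPullback {X X' D W : Scheme.{u}} {π : X' ⟶ X} [Flat π] {i : D ⟶ X}
    [IsClosedImmersion i] [Surjective i] [IsReduced D] {m : W ⟶ X'} {p : W ⟶ D}
    (sq : IsPullback m p π i) (w : W) (hw : ∀ v : X', v ⤳ m w → v = m w) :
    Module.length (X'.presheaf.stalk (m w)) (X'.presheaf.stalk (m w)) =
      Module.length (X.presheaf.stalk (π (m w))) (X.presheaf.stalk (π (m w))) *
        Module.length (W.presheaf.stalk w) (W.presheaf.stalk w) := by
  let φ := sq.isoPullback.hom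
  have hm : m w = pullback.fst π i (φ w) := by
    rw [← Scheme.Hom.comp_apply]; exact congrArg (fun g : W ⟶ X' => g w) sq.isoPullback_hom_fst.symm
  rw [hm] at hw ⊢
  rw [length_stalk_pullback_red π i (φ w) hw]
  congr 1
  let e := (asIso (φ.stalkMap w)).commRingCatIsoToRingEquiv
  letI := e.toRingHom.toAlgebra
  rw [← Module.length_eq_of_surjective (S := (pullback π i).presheaf.stalk (φ w))
    (R := W.presheaf.stalk w) (M := W.presheaf.stalk w) e.surjective]
  exact LinearEquiv.length_eq (LinearEquiv.ofBijective (Algebra.linearMap _ _) e.bijective)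

theorem length_stalk_eq_one {X : Scheme.{u}} [IsReduced X] (x : X) (hx : ∀ z : X, z ⤳ x → z = x) :
    Module.length (X.presheaf.stalk x) (X.presheaf.stalk x) = 1 := by
  have h : maximalIdeal (X.presheaf.stalk x) = ⊥ := by
    rw [← nilradical_eq_maximalIdeal_stalk x hx]
    exact nilradical_eq_zero _
  have : IsField (X.presheaf.stalk x) := isField_iff_maximalIdeal_eq.2 h
  letI := this.toField
  exact Module.length_eq_one _ _

theorem forall_generization_of_isInducing {X Y : Scheme.{u}} (j : X ⟶ Y) [IsClosedImmersion j] (x : X)
    (hx : ∀ z : Y, z ⤳ j x → z = j x) : ∀ z : X, z ⤳ x → z = x := fun z hz =>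
  j.isClosedEmbedding.injective (hx _ (hz.map j.continuous))

end Groth.Agent.FBaseLib

namespace Groth.Agent.FBaseLib

variable {X S T D : Scheme.{u}} (f : X ⟶ S) (g : T ⟶ S) (i : D ⟶ X)

/-- The base change of a morphism along a structure map is cartesian. -/
theorem isPullback_map_fst :
    IsPullback (pullback.map (i ≫ f) g f g i (𝟙 _) (𝟙 _) (Category.comp_id _)
        ((Category.comp_id _).trans (Category.id_comp _).symm))
      (pullback.fst (i ≫ f) g) (pullback.fst f g) i := by
  refine (IsPullback.of_bot ?_ (by simp [pullback.map]) (IsPullback.of_hasPullback f g)).flip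
  simpa [pullback.map] using IsPullback.of_hasPullback (i ≫ f) g

theorem surjective_map_red [Surjective i] (x : ↥(pullback f g)) :
    ∃ z, pullback.map (i ≫ f) g f g i (𝟙 _) (𝟙 _) (Category.comp_id _)
        ((Category.comp_id _).trans (Category.id_comp _).symm) z = x := by
  haveI : Surjective (pullback.map (i ≫ f) g f g i (𝟙 _) (𝟙 _) (Category.comp_id _)
      ((Category.comp_id _).trans (Category.id_comp _).symm)) :=
    MorphismProperty.of_isPullback (P := @Surjective) (isPullback_map_fst f g i).flip inferInstance
  exact Scheme.Hom.surjective _ x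

theorem forall_generization_map_red [IsClosedImmersion i] (z : ↥(pullback (i ≫ f) g))
    (hx : ∀ v : ↥(pullback f g), v ⤳ pullback.map (i ≫ f) g f g i (𝟙 _) (𝟙 _) (Category.comp_id _)
        ((Category.comp_id _).trans (Category.id_comp _).symm) z → v = pullback.map (i ≫ f) g f g i (𝟙 _) (𝟙 _)
        (Category.comp_id _) ((Category.comp_id _).trans (Category.id_comp _).symm) z) :
    ∀ v, v ⤳ z → v = z := by
  haveI : IsClosedImmersion (pullback.map (i ≫ f) g f g i (𝟙 _) (𝟙 _) (Category.comp_id _)
      ((Category.comp_id _).trans (Category.id_comp _).symm)) :=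
    MorphismProperty.of_isPullback (P := @IsClosedImmersion) (isPullback_map_fst f g i).flip inferInstance
  exact forall_generization_of_isInducing _ z hx

end Groth.Agent.FBaseLib
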